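import Mathlib
import Cfsg.Agent.Lib.BlockP.TopHeight

/-!
# Characters of `2`-height `a - 1`: the sign twist

If `|H| = 2^a m` with `m` odd and `2^(a-1)` divides `θ(1)`, for an irreducible character `θ` of `H`,
then the function `θ'` equal to `θ` on the elements of odd order and to `-θ` on the others is again
an irreducible character, and the `2`-block of `θ` is `{θ, θ'}`.
-/

set_option autoImplicit false
set_option linter.unusedSectionVars false

namespace Cfsg.Agent.Lib.BlockD1.TwistTwo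

open Cfsg Cfsg.Agent.Lib.Blocks.Local Cfsg.Agent.Lib.Blocks.Central
open Cfsg.Agent.Lib.BlockP.RegPair Cfsg.Agent.Lib.BlockP.TopHeight
open Cfsg.Agent.Lib.Char.RegularSum
open scoped ComplexConjugate

universe u

variable {H : Type u} [Group H] [Fintype H]

/-- The sign twist of a function. -/
noncomputable def twist (θ : H → ℂ) : H → ℂ := fun u => if 2 ∣ orderOf u then - θ u else θ u

theorem isClassFunction_twist {θ : H → ℂ} (hθ : IsClassFunction H θ) : IsClassFunction H (twist θ) := by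
  intro g h
  have h1 : orderOf (h * g * h⁻¹) = orderOf g := by
    have : h * g * h⁻¹ = MulAut.conj h g := rfl
    rw [this]
    exact MulEquiv.orderOf_eq _ _
  simp only [twist, h1, hθ g h]

theorem twist_one (θ : H → ℂ) : twist θ 1 = θ 1 := by
  simp [twist]

theorem twist_of_odd (θ : H → ℂ) {u : H} (hu : ¬ 2 ∣ orderOf u) : twist θ u = θ u := by
  simp [twist, hu]

theorem twist_of_even (θ : H → ℂ) {u : H} (hu : 2 ∣ orderOf u) : twist θ u = - θ u := by
  simp [twist, hu]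

theorem classInner_twist_self (θ : H → ℂ) : classInner (twist θ) (twist θ) = classInner θ θ := by
  unfold classInner
  congr 1
  refine Fintype.sum_congr _ _ fun u => ?_
  by_cases hu : 2 ∣ orderOf u
  · simp [twist, hu]
  · simp [twist, hu]

/-- The function `2 θ` on the odd elements. -/
theorem classInner_add_twist (ψ θ : H → ℂ) :
    classInner ψ θ + classInner ψ (twist θ) =
      (2 / (Nat.card H : ℂ)) * regSum 2 (fun u => ψ u * conj (θ u)) := by
  unfold classInner regSum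
  have h : ∀ u : H, ψ u * conj (θ u) + ψ u * conj (twist θ u) =
      2 * (if 2 ∣ orderOf u then 0 else ψ u * conj (θ u)) := by
    intro u
    by_cases hu : 2 ∣ orderOf u
    · simp [twist, hu]
    · simp [twist, hu]
      ring
  rw [← mul_add, ← Finset.sum_add_distrib, Finset.sum_congr rfl (fun u _ => h u), ← Finset.mul_sum]
  ring

theorem isCharacter_mul_conj {ψ θ : H → ℂ} (hψ : IsCharacter H ψ) (hθ : IsCharacter H θ) :
    IsCharacter H (fun u => ψ u * conj (θ u)) := by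
  have h1 := Cfsg.Agent.Lib.Char.Basic.isCharacter_inv hθ
  have h2 := Cfsg.Agent.Lib.Char.Basic.isCharacter_mul hψ h1
  convert h2 using 2 with u
  congr 1
  exact (Cfsg.Agent.Lib.Char.Ortho.char_inv_eq_conj hθ u).symm

/-- The key integrality. -/
theorem exists_int_mul_regSum [Fintype (ConjClasses H)] {a m : ℕ} (ha : 1 ≤ a)
    (hcard : Nat.card H = 2 ^ a * m) (hm : ¬ 2 ∣ m) (ψ θ : IrrCharacter H)
    (hdeg : 2 ^ (a - 1) ∣ charDegree (θ : H → ℂ)) :
    ∃ n : ℤ, (2 / (Nat.card H : ℂ)) * regSum 2 (fun u => (ψ : H → ℂ) u * conj ((θ : H → ℂ) u)) = n := by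
  classical
  obtain ⟨N, hN⟩ := exists_regSum_eq_mul (brauerInduction (G := H)) Nat.prime_two hcard hm
    (isCharacter_mul_conj (Cfsg.Agent.Lib.Char.Basic.isCharacter_of_isIrrCharacter ψ.2)
      (Cfsg.Agent.Lib.Char.Basic.isCharacter_of_isIrrCharacter θ.2))
  have hreg := sum_reg_eq 2 ψ θ
  obtain ⟨t, ht⟩ := hdeg
  have hθ1 : (θ : H → ℂ) 1 = ((2 ^ (a - 1) * t : ℕ) : ℂ) := by
    rw [← ht]
    exact Cfsg.Agent.Lib.BlockT.CharSum.one_eq_charDegree (Cfsg.Agent.Lib.Char.Basic.isCharacter_of_isIrrCharacter θ.2)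
  have hm0 : (m : ℂ) ≠ 0 := by
    have : m ≠ 0 := by
      rintro rfl
      exact hm (dvd_zero _)
    exact_mod_cast this
  have h2a : ((2 : ℂ) ^ a) = 2 * 2 ^ (a - 1) := by
    conv_lhs => rw [show a = (a - 1) + 1 by omega]
    rw [pow_succ]
    ring
  have h2a0 : ((2 : ℂ) ^ (a - 1)) ≠ 0 := pow_ne_zero _ (by norm_num)
  set I : ℂ := (2 / (Nat.card H : ℂ)) * regSum 2 (fun u => (ψ : H → ℂ) u * conj ((θ : H → ℂ) u)) with hI
  have hcardC : (Nat.card H : ℂ) = 2 * 2 ^ (a - 1) * m := by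
    rw [hcard]
    push_cast
    rw [h2a]
  have hregE : regSum 2 (fun u => (ψ : H → ℂ) u * conj ((θ : H → ℂ) u)) =
      ((2 ^ (a - 1) * t : ℕ) : ℂ) * regA 2 (ψ : H → ℂ) (θ : H → ℂ) := by
    rw [← hθ1, ← hreg]
    rfl
  have hmI : (m : ℂ) * I = (t : ℂ) * regA 2 (ψ : H → ℂ) (θ : H → ℂ) := by
    rw [hI, hregE, hcardC]
    push_cast
    field_simp
  have hmIint : IsIntegral ℤ ((m : ℂ) * I) := by
    rw [hmI]
    exact IsIntegral.mul (isIntegral_natCast t) (isIntegral_regA 2 ψ θ)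
  have h2mI : (((2 ^ (a - 1) : ℕ) : ℤ) : ℂ) * ((m : ℂ) * I) = (((m : ℤ) * N : ℤ) : ℂ) := by
    rw [hI, hN, hcardC]
    push_cast
    field_simp
  have h20 : (((2 ^ (a - 1) : ℕ) : ℤ)) ≠ 0 := by positivity
  obtain ⟨n, hn⟩ := exists_int_of_integral_mul hmIint h20 h2mI
  have hZ : ((2 ^ (a - 1) : ℕ) : ℤ) * n = (m : ℤ) * N := by
    have := h2mI
    rw [hn] at this
    exact_mod_cast this
  have hcop : IsCoprime ((2 ^ (a - 1) : ℕ) : ℤ) (m : ℤ) := by
    rw [Nat.isCoprime_iff_coprime]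
    exact Nat.Coprime.pow_left _ ((Nat.Prime.coprime_iff_not_dvd Nat.prime_two).mpr hm)
  have hdvd : ((2 ^ (a - 1) : ℕ) : ℤ) ∣ N := hcop.dvd_of_dvd_mul_left ⟨n, hZ.symm⟩
  obtain ⟨N', hN'⟩ := hdvd
  refine ⟨N', ?_⟩
  have h3 : (((2 ^ (a - 1) : ℕ) : ℤ) : ℂ) ≠ 0 := by exact_mod_cast h20
  have : (m : ℂ) * (((2 ^ (a - 1) : ℕ) : ℤ) : ℂ) * I = (m : ℂ) * (((2 ^ (a - 1) : ℕ) : ℤ) : ℂ) * (N' : ℂ) := by
    have e : (m : ℂ) * (((2 ^ (a - 1) : ℕ) : ℤ) : ℂ) * I = (((2 ^ (a - 1) : ℕ) : ℤ) : ℂ) * ((m : ℂ) * I) := by ring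
    rw [e, h2mI, hN']
    push_cast
    ring
  exact mul_left_cancel₀ (mul_ne_zero hm0 h3) this

/-- The sign twist of `θ` is an irreducible character. -/
theorem isIrr_twist [Fintype (ConjClasses H)] {a m : ℕ} (ha : 1 ≤ a) (hcard : Nat.card H = 2 ^ a * m)
    (hm : ¬ 2 ∣ m) (θ : IrrCharacter H) (hdeg : 2 ^ (a - 1) ∣ charDegree (θ : H → ℂ)) :
    IsIrrCharacter H (twist (θ : H → ℂ)) := by
  classical
  haveI := Cfsg.Agent.Lib.Char.Ortho.finite_irrCharacter (G := H)
  letI := Fintype.ofFinite (IrrCharacter H)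
  have hcl : IsClassFunction H (twist (θ : H → ℂ)) :=
    isClassFunction_twist (Cfsg.Agent.Lib.Char.Basic.isClassFunction_of_isIrrCharacter θ.2)
  have hint : ∀ ψ : IrrCharacter H, ∃ n : ℤ, classInner (twist (θ : H → ℂ)) (ψ : H → ℂ) = n := by
    intro ψ
    obtain ⟨n, hn⟩ := exists_int_mul_regSum ha hcard hm ψ θ hdeg
    obtain ⟨k, hk⟩ := Cfsg.Agent.Lib.Char.Ortho.exists_nat_classInner
      (Cfsg.Agent.Lib.Char.Basic.isCharacter_of_isIrrCharacter ψ.2)
      (Cfsg.Agent.Lib.Char.Basic.isCharacter_of_isIrrCharacter θ.2)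
    have h1 := classInner_add_twist (ψ : H → ℂ) (θ : H → ℂ)
    rw [hn, hk] at h1
    have h2 : classInner (ψ : H → ℂ) (twist (θ : H → ℂ)) = ((n - k : ℤ) : ℂ) := by
      push_cast
      rw [← h1]
      ring
    refine ⟨n - k, ?_⟩
    have h3 : classInner (twist (θ : H → ℂ)) (ψ : H → ℂ) =
        conj (classInner (ψ : H → ℂ) (twist (θ : H → ℂ))) := by
      unfold classInner
      rw [map_mul, map_sum, map_inv₀, Complex.conj_natCast]
      congr 1
      refine Fintype.sum_congr _ _ fun u => ?_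
      rw [map_mul, Complex.conj_conj, mul_comm]
    rw [h3, h2, map_intCast]
  choose c hc using hint
  have hexp := Cfsg.Agent.Lib.Char.Complete.classFunction_eq_sum hcl
  have hgen : IsGeneralizedCharacter H (twist (θ : H → ℂ)) := by
    have : twist (θ : H → ℂ) = ∑ i, c i • ((i : IrrCharacter H) : H → ℂ) := by
      conv_lhs => rw [hexp]
      refine Finset.sum_congr rfl fun i _ => ?_
      rw [hc i]
      funext u
      simp
    rw [this]
    exact Cfsg.Agent.Lib.Char.GenLattice.isGenChar_of_int_combination c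
  have hnorm : classInner (twist (θ : H → ℂ)) (twist (θ : H → ℂ)) = 1 := by
    rw [classInner_twist_self]
    exact Cfsg.Agent.Lib.Char.Ortho.classInner_self_of_isIrr θ.2
  rcases Cfsg.Agent.Lib.Char.GenLattice.norm_one hgen hnorm with h | h
  · exact h
  · exfalso
    obtain ⟨d, hd, hd1⟩ := Cfsg.Agent.Lib.Char.Complete.exists_pos_deg_of_isIrr h
    obtain ⟨e, he, he1⟩ := Cfsg.Agent.Lib.Char.Complete.exists_pos_deg_of_isIrr θ.2
    have h1 : (-twist (θ : H → ℂ)) 1 = - (θ : H → ℂ) 1 := by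
      simp [twist_one]
    rw [hd1, he1] at h1
    have h2 : ((d : ℤ) : ℂ) = ((-(e : ℤ) : ℤ) : ℂ) := by
      push_cast
      exact h1
    have h3 : (d : ℤ) = -(e : ℤ) := by exact_mod_cast h2
    omega

/-- The twist lies in the block of `θ`. -/
theorem sameBlock_twist {M : Ideal AlgInt} (hM : IsPModular 2 M) (θ : IrrCharacter H) :
    SameBlock M (θ : H → ℂ) (twist (θ : H → ℂ)) := by
  intro g
  haveI := isPrime_of_pModular hM
  have h1 : centralChar (θ : H → ℂ) g - centralChar (twist (θ : H → ℂ)) g =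
      (if 2 ∣ orderOf g then 2 * centralChar (θ : H → ℂ) g else 0) := by
    unfold centralChar
    rw [twist_one]
    by_cases hg : 2 ∣ orderOf g
    · simp only [twist_of_even _ hg, if_pos hg]
      ring
    · simp only [twist_of_odd _ hg, if_neg hg, sub_self]
  rw [h1]
  split_ifs with hg
  · have h2 : MemLocalIdeal M (2 : ℂ) := by
      have := (natCast_memLocalIdeal_iff hM (n := 2)).mpr dvd_rfl
      exact_mod_cast this
    exact memLocalIdeal_mul_right h2 (isIntegral_centralChar θ g |> memLocalRing_of_isIntegral)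
  · simpa using memLocalIdeal_zero (M := M)

/-- The `2`-block of `θ` consists of `θ` and its sign twist. -/
theorem eq_or_eq_twist_of_sameBlock [Fintype (ConjClasses H)] {M : Ideal AlgInt} (hM : IsPModular 2 M)
    {a m : ℕ} (ha : 1 ≤ a) (hcard : Nat.card H = 2 ^ a * m) (hm : ¬ 2 ∣ m) (θ ψ : IrrCharacter H)
    (hdeg : 2 ^ (a - 1) ∣ charDegree (θ : H → ℂ)) (h : SameBlock M (θ : H → ℂ) (ψ : H → ℂ)) :
    (ψ : H → ℂ) = θ ∨ (ψ : H → ℂ) = twist (θ : H → ℂ) := by
  classical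
  haveI := isPrime_of_pModular hM
  haveI : Fact (Nat.Prime 2) := ⟨Nat.prime_two⟩
  by_contra hne
  push Not at hne
  have h1 := regA_sub_mem (M := M) 2 θ (sameBlock_symm h)
  have h2 := regA_self_notMem hM θ (a := a) (g' := m) hcard hm hdeg
  have h3 : classInner (ψ : H → ℂ) (θ : H → ℂ) = 0 :=
    Cfsg.Agent.Lib.Char.Ortho.classInner_eq_zero_of_isIrr_of_ne ψ.2 θ.2 hne.1
  have h4 : classInner (ψ : H → ℂ) (twist (θ : H → ℂ)) = 0 :=
    Cfsg.Agent.Lib.Char.Ortho.classInner_eq_zero_of_isIrr_of_ne ψ.2 (isIrr_twist ha hcard hm θ hdeg) hne.2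
  have h5 := classInner_add_twist (ψ : H → ℂ) (θ : H → ℂ)
  rw [h3, h4, add_zero] at h5
  have hcard0 : (Nat.card H : ℂ) ≠ 0 := by
    exact_mod_cast Nat.card_pos.ne'
  have h6 : regSum 2 (fun u => (ψ : H → ℂ) u * conj ((θ : H → ℂ) u)) = 0 := by
    have := h5.symm
    rcases mul_eq_zero.mp this with h | h
    · exact absurd h (div_ne_zero two_ne_zero hcard0)
    · exact h
  have h7 : regSum 2 (fun u => (θ : H → ℂ) u * conj ((ψ : H → ℂ) u)) = 0 := by
    have : regSum 2 (fun u => (θ : H → ℂ) u * conj ((ψ : H → ℂ) u)) =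
        conj (regSum 2 (fun u => (ψ : H → ℂ) u * conj ((θ : H → ℂ) u))) := by
      unfold regSum
      rw [map_sum]
      refine Fintype.sum_congr _ _ fun u => ?_
      split_ifs
      · simp
      · rw [map_mul, Complex.conj_conj, mul_comm]
    rw [this, h6, map_zero]
  have h8 := sum_reg_eq 2 θ ψ
  have h9 : (ψ : H → ℂ) 1 * regA 2 (θ : H → ℂ) (ψ : H → ℂ) = 0 := by
    rw [← h8]
    exact h7
  have h10 : regA 2 (θ : H → ℂ) (ψ : H → ℂ) = 0 := by
    rcases mul_eq_zero.mp h9 with h | h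
    · exact absurd h (Cfsg.Agent.Lib.Char.Complete.irr_one_ne_zero ψ.2)
    · exact h
  rw [h10, zero_sub] at h1
  have h11 := memLocalIdeal_neg h1
  rw [neg_neg] at h11
  exact h2 h11

end Cfsg.Agent.Lib.BlockD1.TwistTwo
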