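import Mathlib
import Cfsg.Agent.Lib.BlockD1.TwistTwo
import Cfsg.Agent.Lib.Blocks.FMT
import Cfsg.Agent.Lib.Blocks.CentralDefect
import Cfsg.Agent.Lib.Char.Degree

/-!
# `2`-blocks with defect group of order two
-/

set_option autoImplicit false
set_option linter.unusedSectionVars false
set_option linter.style.haveILetI false

namespace Cfsg.Agent.Lib.BlockD1.OrderTwo

open Cfsg Cfsg.Agent.Lib.Blocks.Local Cfsg.Agent.Lib.Blocks.Central
open Cfsg.Agent.Lib.Blocks.Main Cfsg.Agent.Lib.Blocks.Defect2 Cfsg.Agent.Lib.Blocks.Sections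
open Cfsg.Agent.Lib.Blocks.Inducing Cfsg.Agent.Lib.Blocks.Induced Cfsg.Agent.Lib.Blocks.PPart
open Cfsg.Agent.Lib.BlockP.RegPair Cfsg.Agent.Lib.BlockP.TopHeight
open Cfsg.Agent.Lib.Char.RegularSum Cfsg.Agent.Lib.BlockD1.TwistTwo
open scoped ComplexConjugate

universe u

section Elem

variable {G : Type u} [Group G]

theorem pow_odd_eq {x y : G} (hx : orderOf x = 2) (hc : Commute x y) {n : ℕ} (hn : ¬ 2 ∣ n)
    (hy : orderOf y ∣ n) : (x * y) ^ n = x := by
  rw [hc.mul_pow, orderOf_dvd_iff_pow_eq_one.mp hy, mul_one]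
  obtain ⟨k, rfl⟩ : ∃ k, n = 2 * k + 1 := by
    refine ⟨n / 2, ?_⟩
    omega
  rw [pow_succ, pow_mul, ← hx, pow_orderOf_eq_one, one_pow, one_mul]

theorem two_dvd_orderOf_mul {x y : G} (hx : orderOf x = 2) (hc : Commute x y)
    (hy : ¬ 2 ∣ orderOf y) : 2 ∣ orderOf (x * y) := by
  rw [← hx]
  refine orderOf_dvd_of_mem_zpowers ⟨(orderOf y : ℤ), ?_⟩
  simp only [zpow_natCast]
  exact pow_odd_eq hx hc hy dvd_rfl

theorem orderOf_conj' (g h : G) : orderOf (h * g * h⁻¹) = orderOf g := by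
  have : h * g * h⁻¹ = MulAut.conj h g := rfl
  rw [this]
  exact MulEquiv.orderOf_eq _ _

theorem IsConj.orderOf_eq' {g h : G} (hgh : IsConj g h) : orderOf g = orderOf h := by
  obtain ⟨t, rfl⟩ := isConj_iff.mp hgh
  exact (orderOf_conj' g t).symm

variable {x : G}

theorem mem_centralizer_self_iff {g : G} : g ∈ Subgroup.centralizer ({x} : Set G) ↔ g * x = x * g := by
  rw [Subgroup.mem_centralizer_iff]
  simp [eq_comm]

theorem commute_coe (y : Subgroup.centralizer ({x} : Set G)) : Commute x (y : G) :=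
  (mem_centralizer_self_iff.mp y.2).symm

/-- `x` as an element of its centralizer. -/
def xc (x : G) : Subgroup.centralizer ({x} : Set G) :=
  ⟨x, mem_centralizer_self_iff.mpr rfl⟩

@[simp] theorem coe_xc (x : G) : ((xc x : Subgroup.centralizer ({x} : Set G)) : G) = x := rfl

theorem xc_mem_center : xc x ∈ Subgroup.center (Subgroup.centralizer ({x} : Set G)) := by
  rw [Subgroup.mem_center_iff]
  intro g
  apply Subtype.ext
  exact (commute_coe g).eq.symm

theorem orderOf_xc : orderOf (xc x) = orderOf x := by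
  rw [← Subgroup.orderOf_coe, coe_xc]

theorem isConj_mul_iff (hx : orderOf x = 2) {y z : Subgroup.centralizer ({x} : Set G)}
    (hy : ¬ 2 ∣ orderOf y) (hz : ¬ 2 ∣ orderOf z) :
    IsConj (x * (z : G)) (x * (y : G)) ↔ IsConj z y := by
  constructor
  · intro h
    obtain ⟨g, hg⟩ := isConj_iff.mp h
    have hy' : ¬ 2 ∣ orderOf (y : G) := by rwa [Subgroup.orderOf_coe]
    have hz' : ¬ 2 ∣ orderOf (z : G) := by rwa [Subgroup.orderOf_coe]
    set n := orderOf (y : G) * orderOf (z : G) with hn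
    have hn2 : ¬ 2 ∣ n := by
      intro h2
      rcases (Nat.Prime.dvd_mul Nat.prime_two).mp h2 with h3 | h3
      · exact hy' h3
      · exact hz' h3
    have h1 : (x * (y : G)) ^ n = x := pow_odd_eq hx (commute_coe y) hn2 (Dvd.intro _ rfl)
    have h2 : (x * (z : G)) ^ n = x := pow_odd_eq hx (commute_coe z) hn2 (Dvd.intro_left _ rfl)
    have h3 : g * x * g⁻¹ = x := by
      conv_lhs => rw [← h2]
      rw [← conj_pow, hg, h1]
    have hgC : g ∈ Subgroup.centralizer ({x} : Set G) := by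
      rw [mem_centralizer_self_iff]
      calc g * x = (g * x * g⁻¹) * g := by group
        _ = x * g := by rw [h3]
    refine isConj_iff.mpr ⟨⟨g, hgC⟩, Subtype.ext ?_⟩
    have h4 : x * (g * (z : G) * g⁻¹) = x * (y : G) := by
      rw [← hg]
      calc x * (g * (z : G) * g⁻¹) = (g * x * g⁻¹) * (g * (z : G) * g⁻¹) := by rw [h3]
        _ = g * (x * (z : G)) * g⁻¹ := by group
    simpa using mul_left_cancel h4
  · intro h
    obtain ⟨g, hg⟩ := isConj_iff.mp h
    refine isConj_iff.mpr ⟨g, ?_⟩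
    have h1 : (g : G) * x * (g : G)⁻¹ = x := by
      rw [mem_centralizer_self_iff.mp g.2]
      group
    have h2 : (g : G) * (z : G) * (g : G)⁻¹ = y := by
      have := congrArg Subtype.val hg
      simpa using this
    calc (g : G) * (x * (z : G)) * (g : G)⁻¹ = ((g : G) * x * (g : G)⁻¹) * ((g : G) * (z : G) * (g : G)⁻¹) := by
          group
      _ = x * y := by rw [h1, h2]

theorem card_centralizer_mul (hx : orderOf x = 2) {y : Subgroup.centralizer ({x} : Set G)}
    (hy : ¬ 2 ∣ orderOf y) :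
    Nat.card (Subgroup.centralizer ({x * (y : G)} : Set G)) =
      Nat.card (Subgroup.centralizer ({y} : Set (Subgroup.centralizer ({x} : Set G)))) := by
  have hmap : (Subgroup.centralizer ({y} : Set (Subgroup.centralizer ({x} : Set G)))).map
      (Subgroup.centralizer ({x} : Set G)).subtype = Subgroup.centralizer ({x * (y : G)} : Set G) := by
    ext g
    constructor
    · rintro ⟨t, ht, rfl⟩
      rw [Subgroup.mem_centralizer_iff]
      rintro _ rfl
      have h1 := Subgroup.mem_centralizer_iff.mp ht y rfl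
      have h2 : (y : G) * t = t * y := congrArg Subtype.val h1
      have h3 : (t : G) * x = x * t := mem_centralizer_self_iff.mp t.2
      show x * (y : G) * t = t * (x * y)
      calc x * (y : G) * t = x * ((y : G) * t) := by group
        _ = x * (t * y) := by rw [h2]
        _ = (x * t) * y := by group
        _ = (t * x) * y := by rw [h3]
        _ = t * (x * y) := by group
    · intro hg
      have hy' : ¬ 2 ∣ orderOf (y : G) := by rwa [Subgroup.orderOf_coe]
      have hc : Commute (x * (y : G)) g := (Subgroup.mem_centralizer_iff.mp hg _ rfl)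
      have h1 : Commute x g := by
        have := hc.pow_left (orderOf (y : G))
        rwa [pow_odd_eq hx (commute_coe y) hy' dvd_rfl] at this
      have hgC : g ∈ Subgroup.centralizer ({x} : Set G) := mem_centralizer_self_iff.mpr h1.eq.symm
      refine ⟨⟨g, hgC⟩, ?_, rfl⟩
      change (⟨g, hgC⟩ : Subgroup.centralizer ({x} : Set G)) ∈ Subgroup.centralizer ({y} : Set (Subgroup.centralizer ({x} : Set G)))
      rw [Subgroup.mem_centralizer_iff]
      intro w hw
      have hw' : w = y := hw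
      rw [hw']
      apply Subtype.ext
      show (y : G) * g = g * y
      have h2 : x * ((y : G) * g) = x * (g * y) := by
        calc x * ((y : G) * g) = (x * y) * g := by group
          _ = g * (x * y) := hc.eq
          _ = (g * x) * y := by group
          _ = (x * g) * y := by rw [h1.eq]
          _ = x * (g * y) := by group
      exact mul_left_cancel h2
  rw [← hmap, Subgroup.card_map_of_injective (Subgroup.subtype_injective _)]

end Elem

section Column

variable {G : Type u} [Group G] [Fintype G] [Fintype (IrrCharacter G)] {x : G}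
variable [Fintype (Subgroup.centralizer ({x} : Set G))]

/-- The coefficient of `χ`. -/
noncomputable def dd (θ : Subgroup.centralizer ({x} : Set G) → ℂ) (χ : G → ℂ) : ℂ :=
  (2 / (Nat.card (Subgroup.centralizer ({x} : Set G)) : ℂ)) *
    regSum 2 (fun c : Subgroup.centralizer ({x} : Set G) => χ (x * (c : G)) * conj (θ c))

open Classical in
theorem sum_dd_mul (θ : Subgroup.centralizer ({x} : Set G) → ℂ)
    (hreal : ∀ χ : IrrCharacter G, conj (dd θ (χ : G → ℂ)) = dd θ (χ : G → ℂ)) (g : G) :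
    ∑ χ : IrrCharacter G, dd θ (χ : G → ℂ) * (χ : G → ℂ) g =
      (2 / (Nat.card (Subgroup.centralizer ({x} : Set G)) : ℂ)) *
        ∑ y : Subgroup.centralizer ({x} : Set G), if 2 ∣ orderOf y then 0 else
          θ y * (if IsConj g (x * (y : G)) then
            (Nat.card (Subgroup.centralizer ({x * (y : G)} : Set G)) : ℂ) else 0) := by
  have h1 : ∀ χ : IrrCharacter G, dd θ (χ : G → ℂ) =
      (2 / (Nat.card (Subgroup.centralizer ({x} : Set G)) : ℂ)) *
        ∑ y : Subgroup.centralizer ({x} : Set G), if 2 ∣ orderOf y then 0 else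
          conj ((χ : G → ℂ) (x * (y : G))) * θ y := by
    intro χ
    rw [← hreal χ]
    unfold dd regSum
    rw [map_mul, map_sum, map_div₀, map_natCast, map_ofNat]
    congr 1
    refine Fintype.sum_congr _ _ fun y => ?_
    split_ifs
    · simp
    · rw [map_mul, Complex.conj_conj]
  simp_rw [h1, mul_assoc, ← Finset.mul_sum]
  congr 1
  simp_rw [Finset.sum_mul]
  rw [Finset.sum_comm]
  refine Fintype.sum_congr _ _ fun y => ?_
  by_cases hy : 2 ∣ orderOf y
  · simp only [if_pos hy, zero_mul, Finset.sum_const_zero]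
  · simp only [if_neg hy]
    have h2 := Cfsg.Agent.Lib.Char.Complete.sum_irr_mul_conj g (x * (y : G))
    have h3 : ∑ χ : IrrCharacter G, (χ : G → ℂ) g * conj ((χ : G → ℂ) (x * (y : G))) =
        if IsConj g (x * (y : G)) then
            (Nat.card (Subgroup.centralizer ({x * (y : G)} : Set G)) : ℂ) else 0 := by
      convert h2
    rw [← h3, Finset.mul_sum]
    refine Fintype.sum_congr _ _ fun χ => ?_
    ring

theorem sum_dd_of_odd (hx : orderOf x = 2) (θ : Subgroup.centralizer ({x} : Set G) → ℂ)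
    (hreal : ∀ χ : IrrCharacter G, conj (dd θ (χ : G → ℂ)) = dd θ (χ : G → ℂ)) {g : G}
    (hg : ¬ 2 ∣ orderOf g) :
    ∑ χ : IrrCharacter G, dd θ (χ : G → ℂ) * (χ : G → ℂ) g = 0 := by
  classical
  rw [sum_dd_mul θ hreal, Finset.sum_eq_zero, mul_zero]
  intro y _
  split_ifs with hy hc
  · rfl
  · exfalso
    apply hg
    rw [IsConj.orderOf_eq' hc]
    refine two_dvd_orderOf_mul hx (commute_coe y) ?_
    rwa [Subgroup.orderOf_coe]
  · simp

theorem sum_dd_mul_x (hx : orderOf x = 2) {θ : Subgroup.centralizer ({x} : Set G) → ℂ}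
    (hθ : IsClassFunction _ θ)
    (hreal : ∀ χ : IrrCharacter G, conj (dd θ (χ : G → ℂ)) = dd θ (χ : G → ℂ))
    {z : Subgroup.centralizer ({x} : Set G)} (hz : ¬ 2 ∣ orderOf z) :
    ∑ χ : IrrCharacter G, dd θ (χ : G → ℂ) * (χ : G → ℂ) (x * (z : G)) = 2 * θ z := by
  classical
  rw [sum_dd_mul θ hreal]
  have h1 : ∀ y : Subgroup.centralizer ({x} : Set G),
      (if 2 ∣ orderOf y then (0 : ℂ) else θ y * (if IsConj (x * (z : G)) (x * (y : G)) then
            (Nat.card (Subgroup.centralizer ({x * (y : G)} : Set G)) : ℂ) else 0)) =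
        if IsConj y z then θ z * (Nat.card (Subgroup.centralizer ({z} : Set (Subgroup.centralizer ({x} : Set G)))) : ℂ)
          else 0 := by
    intro y
    by_cases hy : 2 ∣ orderOf y
    · rw [if_pos hy, if_neg]
      intro hc
      rw [IsConj.orderOf_eq' hc] at hy
      exact hz hy
    · simp only [if_neg hy, isConj_mul_iff hx hy hz]
      by_cases hc : IsConj y z
      · rw [if_pos hc.symm, if_pos hc, card_centralizer_mul hx hy]
        obtain ⟨t, rfl⟩ := isConj_iff.mp hc
        have h2 : θ (t * y * t⁻¹) = θ y := hθ y t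
        rw [h2]
        congr 2
        exact (Cfsg.Agent.Lib.BlockT.SylowIn.card_centralizer_of_isConj hc)
      · rw [if_neg (fun h => hc h.symm), if_neg hc, mul_zero]
  rw [Fintype.sum_congr _ _ h1, Finset.sum_ite, Finset.sum_const_zero, add_zero, Finset.sum_const,
    nsmul_eq_mul]
  have h3 := Cfsg.Agent.Lib.Char.Complete.card_isConj_mul_card_centralizer z
  have h4 : ((Finset.univ.filter fun y => IsConj y z).card : ℂ) *
      (Nat.card (Subgroup.centralizer ({z} : Set (Subgroup.centralizer ({x} : Set G)))) : ℂ) =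
      (Nat.card (Subgroup.centralizer ({x} : Set G)) : ℂ) := by
    rw [← h3, Nat.card_eq_fintype_card (α := {y // IsConj y z}), Fintype.card_subtype]
    push_cast
    rfl
  have hc0 : (Nat.card (Subgroup.centralizer ({x} : Set G)) : ℂ) ≠ 0 := by
    exact_mod_cast Nat.card_pos.ne'
  calc _ = (2 / (Nat.card (Subgroup.centralizer ({x} : Set G)) : ℂ)) * θ z *
        (((Finset.univ.filter fun y => IsConj y z).card : ℂ) *
      (Nat.card (Subgroup.centralizer ({z} : Set (Subgroup.centralizer ({x} : Set G)))) : ℂ)) := by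
        ring
    _ = 2 * θ z := by
        rw [h4]
        field_simp

theorem sum_dd_sq (hx : orderOf x = 2) {θ : Subgroup.centralizer ({x} : Set G) → ℂ}
    (hθ : IsClassFunction _ θ)
    (hreal : ∀ χ : IrrCharacter G, conj (dd θ (χ : G → ℂ)) = dd θ (χ : G → ℂ)) :
    ∑ χ : IrrCharacter G, dd θ (χ : G → ℂ) * dd θ (χ : G → ℂ) =
      2 * ((2 / (Nat.card (Subgroup.centralizer ({x} : Set G)) : ℂ)) *
        regSum 2 (fun c : Subgroup.centralizer ({x} : Set G) => θ c * conj (θ c))) := by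
  classical
  have h1 : ∀ χ : IrrCharacter G, dd θ (χ : G → ℂ) * dd θ (χ : G → ℂ) =
      (2 / (Nat.card (Subgroup.centralizer ({x} : Set G)) : ℂ)) *
        ∑ c : Subgroup.centralizer ({x} : Set G), if 2 ∣ orderOf c then 0 else
          (dd θ (χ : G → ℂ) * (χ : G → ℂ) (x * (c : G))) * conj (θ c) := by
    intro χ
    conv_lhs => rw [show dd θ (χ : G → ℂ) * dd θ (χ : G → ℂ) = dd θ (χ : G → ℂ) * ((2 / (Nat.card (Subgroup.centralizer ({x} : Set G)) : ℂ)) *
      regSum 2 (fun c : Subgroup.centralizer ({x} : Set G) => (χ : G → ℂ) (x * (c : G)) * conj (θ c))) from rfl]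
    unfold regSum
    rw [mul_left_comm, Finset.mul_sum]
    congr 1
    refine Fintype.sum_congr _ _ fun c => ?_
    split_ifs
    · simp
    · ring
  simp_rw [h1, ← Finset.mul_sum]
  rw [Finset.sum_comm]
  have h2 : ∀ c : Subgroup.centralizer ({x} : Set G),
      ∑ χ : IrrCharacter G, (if 2 ∣ orderOf c then (0 : ℂ) else
        (dd θ (χ : G → ℂ) * (χ : G → ℂ) (x * (c : G))) * conj (θ c)) =
      2 * (if 2 ∣ orderOf c then 0 else θ c * conj (θ c)) := by
    intro c
    split_ifs with hc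
    · simp
    · rw [← Finset.sum_mul, sum_dd_mul_x hx hθ hreal hc]
      ring
  rw [Fintype.sum_congr _ _ h2, ← Finset.mul_sum]
  unfold regSum
  ring

end Column

section Main

variable {G : Type u} [Group G] [Fintype G] [Fintype (IrrCharacter G)] {M : Ideal AlgInt} {x : G}
variable [Fintype (Subgroup.centralizer ({x} : Set G))]
  [Fintype (IrrCharacter (Subgroup.centralizer ({x} : Set G)))]

theorem zpowers_le_centralizer (x : G) :
    Subgroup.zpowers x ≤ Subgroup.centralizer ({x} : Set G) := by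
  rw [Subgroup.zpowers_le]
  exact mem_centralizer_self_iff.mpr rfl

theorem normal_subgroupOf_zpowers (x : G) :
    ((Subgroup.zpowers x).subgroupOf (Subgroup.centralizer ({x} : Set G))).Normal := by
  refine ⟨fun n hn g => ?_⟩
  rw [Subgroup.mem_subgroupOf] at hn ⊢
  obtain ⟨k, hk⟩ := hn
  refine ⟨k, ?_⟩
  have h1 : Commute x (g : G) := commute_coe g
  have h2 : Commute ((n : G)) (g : G) := by
    rw [← hk]
    exact h1.zpow_left k
  have h3 : (g : G) * (n : G) * (g : G)⁻¹ = (n : G) := by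
    rw [h2.symm.eq, mul_inv_cancel_right]
  simp only [Subgroup.coe_mul, Subgroup.coe_inv, h3]
  exact hk

theorem mem_zpowers_two {x t : G} (hx : orderOf x = 2) (ht : t ∈ Subgroup.zpowers x) :
    t = 1 ∨ t = x := by
  obtain ⟨k, rfl⟩ := ht
  obtain ⟨n, hn⟩ := Int.even_or_odd' k
  have hx2 : x ^ (2 : ℤ) = 1 := by
    rw [zpow_ofNat, ← hx, pow_orderOf_eq_one]
  rcases hn with rfl | rfl
  · left
    simp only [zpow_mul, hx2, one_zpow]
  · right
    simp only [zpow_add, zpow_mul, hx2, one_zpow, one_mul, zpow_one]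

theorem normalizer_zpowers_eq (hx : orderOf x = 2) :
    Subgroup.normalizer ((Subgroup.zpowers x : Subgroup G) : Set G) =
      Subgroup.centralizer ({x} : Set G) := by
  ext g
  rw [Subgroup.mem_normalizer_iff]
  constructor
  · intro h
    have h1 : g * x * g⁻¹ ∈ Subgroup.zpowers x := (h x).mp (Subgroup.mem_zpowers x)
    rw [mem_centralizer_self_iff]
    rcases mem_zpowers_two hx h1 with h2 | h2
    · exfalso
      have h3 : x = 1 := by
        have := congrArg (fun t => g⁻¹ * t * g) h2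
        simpa [mul_assoc] using this
      rw [h3, orderOf_one] at hx
      omega
    · calc g * x = (g * x * g⁻¹) * g := by group
        _ = x * g := by rw [h2]
  · intro hg
    have hc : Commute x g := (mem_centralizer_self_iff.mp hg).symm
    intro h
    have hcz : ∀ k : ℤ, g * x ^ k * g⁻¹ = x ^ k := by
      intro k
      rw [(hc.zpow_left k).symm.eq, mul_inv_cancel_right]
    constructor
    · rintro ⟨k, rfl⟩
      refine ⟨k, ?_⟩
      simp only [hcz]
    · rintro ⟨k, hk⟩
      refine ⟨k, ?_⟩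
      have h1 : (fun t => x ^ t) k = g * h * g⁻¹ := hk
      have h2 : g * x ^ k * g⁻¹ = g * h * g⁻¹ := by rw [hcz]; exact h1
      have h3 : x ^ k = h := by
        have := congrArg (fun t => g⁻¹ * t * g) h2
        simpa [mul_assoc] using this
      exact h3

variable [hMp : M.IsPrime]

theorem isDefect_of_induced [Fact (Nat.Prime 2)] (hM : IsPModular 2 M) {b : Set (IrrCharacter (Subgroup.centralizer ({x} : Set G)))}
    {B : Set (IrrCharacter G)} (hind : IsInducedBlock M _ b B)
    (hBD : IsDefectGroup 2 M B (Subgroup.zpowers x)) :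
    IsDefectGroup 2 M b ((Subgroup.zpowers x).subgroupOf (Subgroup.centralizer ({x} : Set G))) := by
  obtain ⟨D', hD'⟩ := exists_isDefectGroup (p := 2) hind.1
  rw [← defect_eq_subgroupOf hM (normal_subgroupOf_zpowers x) (zpowers_le_centralizer x) hind hBD hD']
  exact hD'

omit [Fintype (Subgroup.centralizer ({x} : Set G))]
  [Fintype (IrrCharacter (Subgroup.centralizer ({x} : Set G)))] in
theorem induced_unique_aux [Fact (Nat.Prime 2)] (hM : IsPModular 2 M) {D : Subgroup G} (hD : IsPGroup 2 D)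
    {B : Set (IrrCharacter G)} (K : Subgroup G)
    (hK : K = Subgroup.normalizer (D : Set G)) (b₁ b₂ : Set (IrrCharacter K)) (h1 : IsPBlock M b₁)
    (h2 : IsDefectGroup 2 M b₁ (D.subgroupOf K)) (h3 : IsInducedBlock M K b₁ B)
    (h4 : IsInducedBlock M K b₂ B) : b₁ = b₂ := by
  subst hK
  letI : Fintype (Subgroup.normalizer (D : Set G)) := Fintype.ofFinite _
  haveI := Cfsg.Agent.Lib.Char.Ortho.finite_irrCharacter (G := Subgroup.normalizer (D : Set G))
  letI : Fintype (IrrCharacter (Subgroup.normalizer (D : Set G))) := Fintype.ofFinite _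
  exact Cfsg.Agent.Lib.Blocks.FMT.first_main_unique hM hD h1 h2 h3 h4

theorem induced_unique [Fact (Nat.Prime 2)] (hM : IsPModular 2 M) (hx : orderOf x = 2)
    {B : Set (IrrCharacter G)} (hBD : IsDefectGroup 2 M B (Subgroup.zpowers x))
    {b₁ b₂ : Set (IrrCharacter (Subgroup.centralizer ({x} : Set G)))}
    (h₁ : IsInducedBlock M _ b₁ B) (h₂ : IsInducedBlock M _ b₂ B) : b₁ = b₂ := by
  have hpg : IsPGroup 2 (Subgroup.zpowers x) := isPGroup_zpowers_of_order ⟨1, by rw [hx, pow_one]⟩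
  exact induced_unique_aux hM hpg _ (normalizer_zpowers_eq hx).symm b₁ b₂ h₁.1
    (isDefect_of_induced hM h₁ hBD) h₁ h₂

theorem two_pow_dvd_charDegree [Fact (Nat.Prime 2)] (hM : IsPModular 2 M) (hx : orderOf x = 2)
    {b : Set (IrrCharacter (Subgroup.centralizer ({x} : Set G)))} (hb : IsPBlock M b)
    (hD : IsDefectGroup 2 M b ((Subgroup.zpowers x).subgroupOf (Subgroup.centralizer ({x} : Set G))))
    {θ : IrrCharacter (Subgroup.centralizer ({x} : Set G))} (hθ : θ ∈ b) {a m : ℕ}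
    (hcard : Nat.card (Subgroup.centralizer ({x} : Set G)) = 2 ^ a * m) (hm : ¬ 2 ∣ m) :
    2 ^ (a - 1) ∣ charDegree (θ : Subgroup.centralizer ({x} : Set G) → ℂ) := by
  have h1 := card_eq_pow_blockDefect hM hb hD
  have h2 : Nat.card ((Subgroup.zpowers x).subgroupOf (Subgroup.centralizer ({x} : Set G))) = 2 := by
    rw [Cfsg.Agent.Lib.BlockT.SylowIn.card_subgroupOf_of_le (zpowers_le_centralizer x),
      Nat.card_zpowers, hx]
  rw [h2] at h1
  have h3 : blockDefect 2 b = 1 := by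
    have := Nat.pow_right_injective (le_refl 2) (show 2 ^ 1 = 2 ^ blockDefect 2 b by simpa using h1)
    exact this.symm
  have hm0 : m ≠ 0 := by
    rintro rfl
    exact hm (dvd_zero _)
  have hfact : (Nat.card (Subgroup.centralizer ({x} : Set G))).factorization 2 = a := by
    rw [hcard, Nat.factorization_mul (by positivity) hm0, Nat.factorization_pow]
    simp [Nat.factorization_eq_zero_of_not_dvd hm, Nat.prime_two.factorization_self]
  unfold blockDefect at h3
  rw [hfact] at h3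
  have hmem : (charDegree (θ : Subgroup.centralizer ({x} : Set G) → ℂ)).factorization 2 ∈
      (fun χ : IrrCharacter (Subgroup.centralizer ({x} : Set G)) =>
        (charDegree (χ : Subgroup.centralizer ({x} : Set G) → ℂ)).factorization 2) '' b :=
    ⟨θ, hθ, rfl⟩
  have h4 := Nat.sInf_le hmem
  have h5 : a - 1 ≤ (charDegree (θ : Subgroup.centralizer ({x} : Set G) → ℂ)).factorization 2 := by
    omega
  have hdeg0 : charDegree (θ : Subgroup.centralizer ({x} : Set G) → ℂ) ≠ 0 :=
    (Cfsg.Agent.Lib.Char.Degree.charDegree_pos θ.2).ne'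
  exact (Nat.Prime.pow_dvd_iff_le_factorization Nat.prime_two hdeg0).mpr h5

/-- Translation by the central element `x`. -/
theorem classInner_translate (χ : G → ℂ) {η : Subgroup.centralizer ({x} : Set G) → ℂ} {s : ℂ}
    (hx : orderOf x = 2) (hs : conj s = s)
    (hη : ∀ c, η (xc x * c) = s * η c) :
    classInner (fun c : Subgroup.centralizer ({x} : Set G) => χ (x * (c : G))) η =
      s * classInner (fun c : Subgroup.centralizer ({x} : Set G) => χ (c : G)) η := by
  classical
  unfold classInner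
  rw [mul_left_comm]
  congr 1
  rw [Finset.mul_sum, ← Equiv.sum_comp (Equiv.mulLeft (xc x))]
  refine Fintype.sum_congr _ _ fun c => ?_
  have hxx : x * x = 1 := by
    rw [← pow_two, ← hx, pow_orderOf_eq_one]
  simp only [Equiv.coe_mulLeft, Subgroup.coe_mul, coe_xc, hη, map_mul, hs]
  rw [← mul_assoc x x, hxx, one_mul]
  ring

end Main

section Final

variable {G : Type u} [Group G] [Fintype G] [Fintype (IrrCharacter G)] {M : Ideal AlgInt} {x : G}
variable [Fintype (Subgroup.centralizer ({x} : Set G))]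
  [Fintype (IrrCharacter (Subgroup.centralizer ({x} : Set G)))]
  [Fintype (ConjClasses (Subgroup.centralizer ({x} : Set G)))]

/-- The main formula. -/
theorem main_formula [Fact (Nat.Prime 2)] (hM : IsPModular 2 M) (hx : orderOf x = 2)
    {B : Set (IrrCharacter G)} (hB : IsPBlock M B) (hBD : IsDefectGroup 2 M B (Subgroup.zpowers x))
    {b : Set (IrrCharacter (Subgroup.centralizer ({x} : Set G)))}
    (hb : IsInducedBlock M _ b B) {θ θ' : IrrCharacter (Subgroup.centralizer ({x} : Set G))}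
    (hθ : θ ∈ b) (hθ' : θ' ∈ b) (hne : θ ≠ θ') (hb2 : ∀ ψ ∈ b, ψ = θ ∨ ψ = θ')
    (hθθ' : (θ' : Subgroup.centralizer ({x} : Set G) → ℂ) = twist (θ : Subgroup.centralizer ({x} : Set G) → ℂ))
    (χ : IrrCharacter G) (y : Subgroup.centralizer ({x} : Set G)) (hy : ¬ 2 ∣ orderOf y) [Decidable (χ ∈ B)] :
    (if χ ∈ B then (χ : G → ℂ) (x * (y : G)) else 0) =
      dd (θ : Subgroup.centralizer ({x} : Set G) → ℂ) (χ : G → ℂ) *
        (θ : Subgroup.centralizer ({x} : Set G) → ℂ) y := by
  classical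
  haveI := isPrime_of_pModular hM
  have hP := isBrauerPair_zpowers (p := 2) (x := x) ⟨1, by rw [hx, pow_one]⟩
  have hy' : ¬ 2 ∣ orderOf (y : G) := by rwa [Subgroup.orderOf_coe]
  have hpp : IsPPart 2 (((xc x * y : Subgroup.centralizer ({x} : Set G))) : G) x :=
    ⟨y, rfl, commute_coe y, ⟨1, by rw [hx, pow_one]⟩, hy'⟩
  have h1 := sum_indUnion_mul hM hP hB (xc x * y) hpp le_rfl χ
  have hU : indUnion M (Subgroup.centralizer ({x} : Set G)) B = b := by
    ext ξ
    constructor
    · intro hξ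
      have hξ' : IsInducedBlock M _ (blockOf M (ξ : Subgroup.centralizer ({x} : Set G) → ℂ)) B := hξ
      have := induced_unique hM hx hBD hξ' hb
      rw [← this]
      exact mem_blockOf_self ξ
    · intro hξ
      change IsInducedBlock M _ (blockOf M (ξ : Subgroup.centralizer ({x} : Set G) → ℂ)) B
      rw [← isPBlock_eq_blockOf hb.1 hξ]
      exact hb
  rw [hU] at h1
  have hϑ : IsClassFunction (Subgroup.centralizer ({x} : Set G))
      (fun c : Subgroup.centralizer ({x} : Set G) => (χ : G → ℂ) (x * (c : G))) := by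
    intro c t
    have h2 : x * ((t * c * t⁻¹ : Subgroup.centralizer ({x} : Set G)) : G) =
        (t : G) * (x * (c : G)) * (t : G)⁻¹ := by
      have h3 : (t : G) * x * (t : G)⁻¹ = x := by
        rw [mem_centralizer_self_iff.mp t.2]
        group
      simp only [Subgroup.coe_mul, Subgroup.coe_inv]
      calc x * ((t : G) * c * (t : G)⁻¹) = ((t : G) * x * (t : G)⁻¹) * ((t : G) * c * (t : G)⁻¹) := by rw [h3]
        _ = _ := by group
    show (χ : G → ℂ) (x * ((t * c * t⁻¹ : Subgroup.centralizer ({x} : Set G)) : G)) = _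
    rw [h2]
    exact Cfsg.Agent.Lib.Char.Basic.isClassFunction_of_isIrrCharacter χ.2 _ _
  have h2 := blockPart_eq_sum_idem b hϑ y
  have h3 : ∑ k : Subgroup.centralizer ({x} : Set G), blockCoeff b k * (χ : G → ℂ) ((k : G) * ((xc x * y : Subgroup.centralizer ({x} : Set G)) : G)) =
      ∑ k : Subgroup.centralizer ({x} : Set G), blockCoeff b k * (χ : G → ℂ) (x * ((k * y : Subgroup.centralizer ({x} : Set G)) : G)) := by
    refine Fintype.sum_congr _ _ fun k => ?_
    congr 2
    simp only [Subgroup.coe_mul, coe_xc]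
    rw [← mul_assoc, ← mul_assoc, (commute_coe k).eq]
  rw [h3, ← h2, blockPart_apply] at h1
  have h1' : (∑ ψ : IrrCharacter (Subgroup.centralizer ({x} : Set G)), if ψ ∈ b then classInner (fun c : Subgroup.centralizer ({x} : Set G) => (χ : G → ℂ) (x * (c : G))) (ψ : Subgroup.centralizer ({x} : Set G) → ℂ) * (ψ : Subgroup.centralizer ({x} : Set G) → ℂ) y else 0) = if χ ∈ B then (χ : G → ℂ) (x * (y : G)) else 0 := h1
  rw [← h1']
  rw [Finset.sum_eq_add θ θ' hne]
  · rw [if_pos hθ, if_pos hθ', hθθ', twist_of_odd _ hy]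
    unfold dd
    rw [← classInner_add_twist]
    ring
  · intro c _ hc
    rw [if_neg]
    intro hcb
    rcases hb2 c hcb with h | h
    · exact hc.1 h
    · exact hc.2 h
  · intro h
    exact absurd (Finset.mem_univ _) h
  · intro h
    exact absurd (Finset.mem_univ _) h

/-- Vanishing on the section of `x` forces vanishing on all elements of even order. -/
theorem char_eq_zero_of_section_vanish [Fact (Nat.Prime 2)] (hM : IsPModular 2 M) (hx : orderOf x = 2)
    {B : Set (IrrCharacter G)} (hB : IsPBlock M B) (hBD : IsDefectGroup 2 M B (Subgroup.zpowers x))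
    {χ : IrrCharacter G} (hχ : χ ∈ B)
    (h0 : ∀ y : Subgroup.centralizer ({x} : Set G), ¬ 2 ∣ orderOf y → (χ : G → ℂ) (x * (y : G)) = 0)
    {g : G} (hg : 2 ∣ orderOf g) : (χ : G → ℂ) g = 0 := by
  classical
  haveI := isPrime_of_pModular hM
  obtain ⟨u, hu⟩ := exists_isPPart (p := 2) g
  have hBχ : B = blockOf M (χ : G → ℂ) := isPBlock_eq_blockOf hB hχ
  by_cases hex : ∃ D : Subgroup G, IsDefectGroup 2 M (blockOf M (χ : G → ℂ)) D ∧ u ∈ D
  · obtain ⟨D, hD, huD⟩ := hex
    rw [← hBχ] at hD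
    obtain ⟨t, rfl⟩ := isDefectGroup_exists_conj_eq hM hB hBD hD
    obtain ⟨w, hw, rfl⟩ := huD
    obtain ⟨v, huv, hc, hk, hv⟩ := hu
    have hw1 : w = x := by
      rcases mem_zpowers_two hx hw with h | h
      · exfalso
        subst h
        have h1 : g = v := by
          rw [← huv]
          simp
        rw [h1] at hg
        exact hv hg
      · exact h
    subst hw1
    -- `w = x`
    have hconj : (MulAut.conj t).toMonoidHom w = t * w * t⁻¹ := rfl
    rw [hconj] at huv hc
    set v' := t⁻¹ * v * t with hv'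
    have hgv : t⁻¹ * g * t = w * v' := by
      rw [← huv, hv']
      group
    have hv'C : v' ∈ Subgroup.centralizer ({w} : Set G) := by
      rw [mem_centralizer_self_iff]
      have h1 : (t * w * t⁻¹) * v = v * (t * w * t⁻¹) := hc.eq
      rw [hv']
      calc t⁻¹ * v * t * w = t⁻¹ * (v * (t * w * t⁻¹)) * t := by group
        _ = t⁻¹ * ((t * w * t⁻¹) * v) * t := by rw [h1]
        _ = w * (t⁻¹ * v * t) := by group
    have hv'odd : ¬ 2 ∣ orderOf (⟨v', hv'C⟩ : Subgroup.centralizer ({w} : Set G)) := by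
      rw [← Subgroup.orderOf_coe]
      show ¬ 2 ∣ orderOf v'
      rw [hv']
      have := orderOf_conj' v t⁻¹
      rw [inv_inv] at this
      rw [this]
      exact hv
    have h1 := h0 ⟨v', hv'C⟩ hv'odd
    have h2 : (χ : G → ℂ) g = (χ : G → ℂ) (t⁻¹ * g * t⁻¹⁻¹) :=
      (Cfsg.Agent.Lib.Char.Basic.isClassFunction_of_isIrrCharacter χ.2 g t⁻¹).symm
    rw [inv_inv, hgv] at h2
    rw [h2]
    exact h1
  · push Not at hex
    exact Cfsg.Agent.Lib.Blocks.Sections.char_eq_zero_of_forall_notMem_defect hM χ hu hex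

/-- No member of a block of positive defect can vanish on all elements of even order. -/
theorem singleton_of_vanish [Fact (Nat.Prime 2)] (hM : IsPModular 2 M) (χ : IrrCharacter G)
    (h0 : ∀ g : G, 2 ∣ orderOf g → (χ : G → ℂ) g = 0) : blockOf M (χ : G → ℂ) = {χ} := by
  classical
  haveI := isPrime_of_pModular hM
  rw [← blockOf_eq_singleton_iff hM χ]
  intro h2
  have h3 := pow_dvd_of_vanish (p := 2) (a := (Nat.card G).factorization 2)
    (Nat.ordProj_dvd _ _) χ h0
  have hdvd := Cfsg.Agent.Lib.Char.Degree.charDegree_dvd_card χ.2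
  obtain ⟨q, hq⟩ := hdvd
  have hd0 : charDegree (χ : G → ℂ) ≠ 0 := (Cfsg.Agent.Lib.Char.Degree.charDegree_pos χ.2).ne'
  have hq' : Nat.card G / charDegree (χ : G → ℂ) = q := by
    rw [hq]
    exact Nat.mul_div_cancel_left _ (Nat.pos_of_ne_zero hd0)
  rw [hq'] at h2
  have h4 : 2 ^ ((Nat.card G).factorization 2 + 1) ∣ Nat.card G := by
    rw [pow_succ]
    conv_rhs => rw [hq]
    exact Nat.mul_dvd_mul h3 h2
  have hc0 : Nat.card G ≠ 0 := Nat.card_pos.ne'
  have h5 := (Nat.Prime.pow_dvd_iff_le_factorization Nat.prime_two hc0).mp h4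
  omega

/-- Blocks of defect one for `p = 2`. -/
theorem defect_two [Fact (Nat.Prime 2)] (hM : IsPModular 2 M) (hx : orderOf x = 2)
    {B : Set (IrrCharacter G)} (hB : IsPBlock M B) (hBD : IsDefectGroup 2 M B (Subgroup.zpowers x))
    {b : Set (IrrCharacter (Subgroup.centralizer ({x} : Set G)))}
    (hb : IsInducedBlock M _ b B) {θ : IrrCharacter (Subgroup.centralizer ({x} : Set G))}
    (hθ : θ ∈ b)
    (hθx : (θ : Subgroup.centralizer ({x} : Set G) → ℂ) (xc x) = (θ : Subgroup.centralizer ({x} : Set G) → ℂ) 1) :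
    Nat.card B = 2 ∧ (∀ χ ∈ B, ∀ ψ ∈ B, ∀ g : G, ¬ 2 ∣ orderOf g → (χ : G → ℂ) g = (ψ : G → ℂ) g) ∧
      ∃ χ₁ ∈ B, ∃ χ₂ ∈ B, χ₁ ≠ χ₂ ∧ ∃ ε₁ ε₂ : ℤ, (ε₁ = 1 ∨ ε₁ = -1) ∧ (ε₂ = 1 ∨ ε₂ = -1) ∧ ε₁ * ε₂ = -1 ∧
        ∀ y : Subgroup.centralizer ({x} : Set G), ¬ 2 ∣ orderOf y →
          (χ₁ : G → ℂ) (x * (y : G)) = (ε₁ : ℂ) * (θ : Subgroup.centralizer ({x} : Set G) → ℂ) y ∧
          (χ₂ : G → ℂ) (x * (y : G)) = (ε₂ : ℂ) * (θ : Subgroup.centralizer ({x} : Set G) → ℂ) y := by
  classical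
  haveI := isPrime_of_pModular hM
  have hcC0 : Nat.card (Subgroup.centralizer ({x} : Set G)) ≠ 0 := Nat.card_pos.ne'
  have hxc2 : orderOf (xc x) = 2 := by rw [orderOf_xc, hx]
  have h2C : 2 ∣ Nat.card (Subgroup.centralizer ({x} : Set G)) := by
    rw [← hxc2]
    exact orderOf_dvd_natCard _
  obtain ⟨a, m, hcard, hm, ha⟩ : ∃ a m : ℕ, Nat.card (Subgroup.centralizer ({x} : Set G)) = 2 ^ a * m ∧
      ¬ 2 ∣ m ∧ 1 ≤ a :=
    ⟨_, _, (Nat.ordProj_mul_ordCompl_eq_self _ 2).symm, Nat.not_dvd_ordCompl Nat.prime_two hcC0,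
      Nat.Prime.factorization_pos_of_dvd Nat.prime_two hcC0 h2C⟩
  have hdeg := two_pow_dvd_charDegree hM hx hb.1 (isDefect_of_induced hM hb hBD) hθ hcard hm
  let θ' : IrrCharacter (Subgroup.centralizer ({x} : Set G)) :=
    ⟨twist (θ : Subgroup.centralizer ({x} : Set G) → ℂ), isIrr_twist ha hcard hm θ hdeg⟩
  have hθ'c : (θ' : Subgroup.centralizer ({x} : Set G) → ℂ) = twist (θ : Subgroup.centralizer ({x} : Set G) → ℂ) := rfl
  have hθ1 := Cfsg.Agent.Lib.Char.Complete.irr_one_ne_zero θ.2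
  have hxeven : 2 ∣ orderOf (xc x) := by rw [hxc2]
  have hθ'x : (θ' : Subgroup.centralizer ({x} : Set G) → ℂ) (xc x) = - (θ : Subgroup.centralizer ({x} : Set G) → ℂ) 1 := by
    rw [hθ'c, twist_of_even _ hxeven, hθx]
  have hne : θ ≠ θ' := by
    intro h
    have h1 : (θ : Subgroup.centralizer ({x} : Set G) → ℂ) (xc x) = (θ' : Subgroup.centralizer ({x} : Set G) → ℂ) (xc x) := by
      rw [← h]
    rw [hθ'x, hθx] at h1
    apply hθ1
    have h2 : (2 : ℂ) * (θ : Subgroup.centralizer ({x} : Set G) → ℂ) 1 = 0 := by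
      linear_combination h1
    simpa using h2
  have hbθ : b = blockOf M (θ : Subgroup.centralizer ({x} : Set G) → ℂ) := isPBlock_eq_blockOf hb.1 hθ
  have hθ'b : θ' ∈ b := by
    rw [hbθ]
    exact sameBlock_twist hM θ
  have hb2 : ∀ ψ ∈ b, ψ = θ ∨ ψ = θ' := by
    intro ψ hψ
    rw [hbθ] at hψ
    rcases eq_or_eq_twist_of_sameBlock hM ha hcard hm θ ψ hdeg hψ with h | h
    · exact Or.inl (Subtype.ext h)
    · exact Or.inr (Subtype.ext h)
  have hform := fun (χ : IrrCharacter G) y hy =>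
    main_formula hM hx hB hBD hb hθ hθ'b hne hb2 hθ'c χ y hy
  -- translation
  have hη : ∀ c, (θ : Subgroup.centralizer ({x} : Set G) → ℂ) (xc x * c) = 1 * (θ : Subgroup.centralizer ({x} : Set G) → ℂ) c := by
    intro c
    rw [Cfsg.Agent.Lib.Blocks.CentralDefect.irr_central_mul θ xc_mem_center c, hθx, div_self hθ1]
  have hθ'1 : (θ' : Subgroup.centralizer ({x} : Set G) → ℂ) 1 = (θ : Subgroup.centralizer ({x} : Set G) → ℂ) 1 := by
    rw [hθ'c, twist_one]
  have hη' : ∀ c, (θ' : Subgroup.centralizer ({x} : Set G) → ℂ) (xc x * c) = (-1) * (θ' : Subgroup.centralizer ({x} : Set G) → ℂ) c := by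
    intro c
    rw [Cfsg.Agent.Lib.Blocks.CentralDefect.irr_central_mul θ' xc_mem_center c, hθ'x, hθ'1, neg_div,
      div_self hθ1]
  have hint : ∀ χ : IrrCharacter G, ∃ n : ℤ, dd (θ : Subgroup.centralizer ({x} : Set G) → ℂ) (χ : G → ℂ) = n := by
    intro χ
    unfold dd
    rw [← classInner_add_twist, ← hθ'c, classInner_translate _ hx (by simp) hη,
      classInner_translate _ hx (by simp) hη']
    have hres := Cfsg.Agent.Lib.Char.Basic.isCharacter_restrict (Subgroup.centralizer ({x} : Set G))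
      (Cfsg.Agent.Lib.Char.Basic.isCharacter_of_isIrrCharacter χ.2)
    obtain ⟨n₁, hn₁⟩ := Cfsg.Agent.Lib.Char.Ortho.exists_nat_classInner hres
      (Cfsg.Agent.Lib.Char.Basic.isCharacter_of_isIrrCharacter θ.2)
    obtain ⟨n₂, hn₂⟩ := Cfsg.Agent.Lib.Char.Ortho.exists_nat_classInner hres
      (Cfsg.Agent.Lib.Char.Basic.isCharacter_of_isIrrCharacter θ'.2)
    refine ⟨(n₁ : ℤ) - n₂, ?_⟩
    have e1 : classInner (fun c : Subgroup.centralizer ({x} : Set G) => (χ : G → ℂ) (c : G)) (θ : Subgroup.centralizer ({x} : Set G) → ℂ) = n₁ := hn₁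
    have e2 : classInner (fun c : Subgroup.centralizer ({x} : Set G) => (χ : G → ℂ) (c : G)) (θ' : Subgroup.centralizer ({x} : Set G) → ℂ) = n₂ := hn₂
    rw [e1, e2]
    push_cast
    ring
  choose mm hmm using hint
  have hreal : ∀ χ : IrrCharacter G, conj (dd (θ : Subgroup.centralizer ({x} : Set G) → ℂ) (χ : G → ℂ)) = dd (θ : Subgroup.centralizer ({x} : Set G) → ℂ) (χ : G → ℂ) := by
    intro χ
    rw [hmm χ, map_intCast]
  have hcl : IsClassFunction _ (θ : Subgroup.centralizer ({x} : Set G) → ℂ) :=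
    Cfsg.Agent.Lib.Char.Basic.isClassFunction_of_isIrrCharacter θ.2
  set F : G → ℂ := ∑ i : IrrCharacter G, mm i • (i : G → ℂ) with hF
  have hgen : IsGeneralizedCharacter G F := Cfsg.Agent.Lib.Char.GenLattice.isGenChar_of_int_combination mm
  have hFval : ∀ g, F g = ∑ χ : IrrCharacter G, dd (θ : Subgroup.centralizer ({x} : Set G) → ℂ) (χ : G → ℂ) * (χ : G → ℂ) g := by
    intro g
    rw [hF, Finset.sum_apply]
    refine Fintype.sum_congr _ _ fun i => ?_
    rw [hmm i, Pi.smul_apply, zsmul_eq_mul]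
  have hnorm : classInner F F = 2 := by
    rw [hF, Cfsg.Agent.Lib.Char.Complete.classInner_self_of_int_combination]
    have h1 := sum_dd_sq hx hcl hreal
    push_cast
    have h2 : ∑ i : IrrCharacter G, ((mm i : ℂ)) ^ 2 = ∑ χ : IrrCharacter G, dd (θ : Subgroup.centralizer ({x} : Set G) → ℂ) (χ : G → ℂ) * dd (θ : Subgroup.centralizer ({x} : Set G) → ℂ) (χ : G → ℂ) := by
      refine Fintype.sum_congr _ _ fun i => ?_
      rw [hmm i, pow_two]
    rw [h2, h1, ← classInner_add_twist, ← hθ'c, Cfsg.Agent.Lib.Char.Ortho.classInner_self_of_isIrr θ.2,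
      Cfsg.Agent.Lib.Char.Ortho.classInner_eq_zero_of_isIrr_of_ne θ.2 θ'.2 (fun h => hne (Subtype.ext h))]
    ring
  obtain ⟨χ₁, χ₂, ε₁, ε₂, hχ₁, hχ₂, hχne, hε₁, hε₂, hFeq⟩ :=
    Cfsg.Agent.Lib.Char.GenLattice.norm_two hgen hnorm
  let X₁ : IrrCharacter G := ⟨χ₁, hχ₁⟩
  let X₂ : IrrCharacter G := ⟨χ₂, hχ₂⟩
  have hXne : X₁ ≠ X₂ := fun h => hχne (congrArg Subtype.val h)
  have hFg : ∀ g, F g = (ε₁ : ℂ) * χ₁ g + (ε₂ : ℂ) * χ₂ g := by
    intro g
    rw [hFeq]
    simp
  have hcoef : ∀ i : IrrCharacter G, (mm i : ℂ) = (ε₁ : ℂ) * classInner χ₁ (i : G → ℂ) + (ε₂ : ℂ) * classInner χ₂ (i : G → ℂ) := by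
    intro i
    rw [← Cfsg.Agent.Lib.Char.Complete.classInner_of_int_combination mm i, ← hF]
    unfold classInner
    have h5 : ∑ g, F g * conj ((i : G → ℂ) g) = (ε₁ : ℂ) * ∑ g, χ₁ g * conj ((i : G → ℂ) g) +
        (ε₂ : ℂ) * ∑ g, χ₂ g * conj ((i : G → ℂ) g) := by
      rw [Finset.mul_sum, Finset.mul_sum, ← Finset.sum_add_distrib]
      refine Fintype.sum_congr _ _ fun g => ?_
      rw [hFg]
      ring
    rw [h5]
    ring
  have hm₁ : (mm X₁ : ℂ) = ε₁ := by
    rw [hcoef X₁]
    have e1 : classInner χ₁ ((X₁ : IrrCharacter G) : G → ℂ) = 1 := Cfsg.Agent.Lib.Char.Ortho.classInner_self_of_isIrr hχ₁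
    have e2 : classInner χ₂ ((X₁ : IrrCharacter G) : G → ℂ) = 0 :=
      Cfsg.Agent.Lib.Char.Ortho.classInner_eq_zero_of_isIrr_of_ne hχ₂ hχ₁ (fun h => hχne h.symm)
    rw [e1, e2]
    ring
  have hm₂ : (mm X₂ : ℂ) = ε₂ := by
    rw [hcoef X₂]
    have e1 : classInner χ₂ ((X₂ : IrrCharacter G) : G → ℂ) = 1 := Cfsg.Agent.Lib.Char.Ortho.classInner_self_of_isIrr hχ₂
    have e2 : classInner χ₁ ((X₂ : IrrCharacter G) : G → ℂ) = 0 :=
      Cfsg.Agent.Lib.Char.Ortho.classInner_eq_zero_of_isIrr_of_ne hχ₁ hχ₂ hχne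
    rw [e1, e2]
    ring
  have hm₀ : ∀ i : IrrCharacter G, i ≠ X₁ → i ≠ X₂ → (mm i : ℂ) = 0 := by
    intro i h1 h2
    rw [hcoef i,
      Cfsg.Agent.Lib.Char.Ortho.classInner_eq_zero_of_isIrr_of_ne hχ₁ i.2 (fun h => h1 (Subtype.ext h.symm)),
      Cfsg.Agent.Lib.Char.Ortho.classInner_eq_zero_of_isIrr_of_ne hχ₂ i.2 (fun h => h2 (Subtype.ext h.symm))]
    ring
  have hodd0 : ∀ g : G, ¬ 2 ∣ orderOf g → (ε₁ : ℂ) * χ₁ g + (ε₂ : ℂ) * χ₂ g = 0 := by
    intro g hg
    rw [← hFg, hFval, sum_dd_of_odd hx _ hreal hg]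
  -- the signs
  obtain ⟨d₁, hd₁, hd₁1⟩ := Cfsg.Agent.Lib.Char.Complete.exists_pos_deg_of_isIrr hχ₁
  obtain ⟨d₂, hd₂, hd₂1⟩ := Cfsg.Agent.Lib.Char.Complete.exists_pos_deg_of_isIrr hχ₂
  have h1odd : ¬ 2 ∣ orderOf (1 : G) := by simp
  have hdeq := hodd0 1 h1odd
  rw [hd₁1, hd₂1] at hdeq
  have hdZ : ε₁ * (d₁ : ℤ) + ε₂ * (d₂ : ℤ) = 0 := by exact_mod_cast hdeq
  have hεε : ε₂ = - ε₁ := by
    rcases hε₁ with rfl | rfl <;> rcases hε₂ with rfl | rfl <;> first | rfl | omega
  have hε1 : (ε₁ : ℂ) ≠ 0 := by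
    rcases hε₁ with rfl | rfl <;> simp
  have hε2 : (ε₂ : ℂ) ≠ 0 := by
    rcases hε₂ with rfl | rfl <;> simp
  have hmul : ε₁ * ε₂ = -1 := by
    rw [hεε]
    rcases hε₁ with rfl | rfl <;> rfl
  have hsame : ∀ g : G, ¬ 2 ∣ orderOf g → χ₁ g = χ₂ g := by
    intro g hg
    have := hodd0 g hg
    rw [hεε] at this
    push_cast at this
    have h3 : (ε₁ : ℂ) * (χ₁ g - χ₂ g) = 0 := by linear_combination this
    rcases mul_eq_zero.mp h3 with h | h
    · exact absurd h hε1
    · exact sub_eq_zero.mp h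
  -- membership
  have hX₁ : X₁ ∈ B := by
    by_contra hn
    have h1 := hform X₁ 1 (by simp)
    rw [if_neg hn, hmm X₁, hm₁] at h1
    have h2 : (ε₁ : ℂ) * (θ : Subgroup.centralizer ({x} : Set G) → ℂ) 1 ≠ 0 := mul_ne_zero hε1 hθ1
    exact h2 h1.symm
  have hX₂ : X₂ ∈ B := by
    by_contra hn
    have h1 := hform X₂ 1 (by simp)
    rw [if_neg hn, hmm X₂, hm₂] at h1
    have h2 : (ε₂ : ℂ) * (θ : Subgroup.centralizer ({x} : Set G) → ℂ) 1 ≠ 0 := mul_ne_zero hε2 hθ1
    exact h2 h1.symm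
  have hall : ∀ χ ∈ B, χ = X₁ ∨ χ = X₂ := by
    intro χ hχ
    by_contra hn
    push Not at hn
    have hd0 : dd (θ : Subgroup.centralizer ({x} : Set G) → ℂ) (χ : G → ℂ) = 0 := by
      rw [hmm χ, hm₀ χ hn.1 hn.2]
    have h0 : ∀ y : Subgroup.centralizer ({x} : Set G), ¬ 2 ∣ orderOf y → (χ : G → ℂ) (x * (y : G)) = 0 := by
      intro y hy
      have := hform χ y hy
      rwa [if_pos hχ, hd0, zero_mul] at this
    have h1 := singleton_of_vanish hM χ (fun g hg => char_eq_zero_of_section_vanish hM hx hB hBD hχ h0 hg)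
    have h2 : B = {χ} := by
      rw [isPBlock_eq_blockOf hB hχ, h1]
    rw [h2] at hX₁
    exact hn.1 (Set.mem_singleton_iff.mp hX₁).symm
  have hBeq : B = {X₁, X₂} := by
    ext χ
    constructor
    · intro hχ
      rcases hall χ hχ with h | h
      · exact Or.inl h
      · exact Or.inr h
    · rintro (rfl | h)
      · exact hX₁
      · rw [Set.mem_singleton_iff.mp h]
        exact hX₂
  refine ⟨?_, ?_, X₁, hX₁, X₂, hX₂, hXne, ε₁, ε₂, hε₁, hε₂, hmul, ?_⟩
  · rw [hBeq, Nat.card_coe_set_eq, Set.ncard_pair hXne]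
  · intro χ hχ ψ hψ g hg
    rcases hall χ hχ with rfl | rfl <;> rcases hall ψ hψ with rfl | rfl
    · rfl
    · exact hsame g hg
    · exact (hsame g hg).symm
    · rfl
  · intro y hy
    constructor
    · have := hform X₁ y hy
      rw [if_pos hX₁, hmm X₁, hm₁] at this
      exact this
    · have := hform X₂ y hy
      rw [if_pos hX₂, hmm X₂, hm₂] at this
      exact this

end Final

end Cfsg.Agent.Lib.BlockD1.OrderTwo
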